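import Groth.Agent.NeutralGen28.Generic
import Groth.Agent.GrpSGA.Neutral
import Groth.Agent.GrpSGA.NeutralCons

/-!
# The orders of the torsion component points are bounded on quasi-compact opens
-/

set_option autoImplicit false
set_option backward.isDefEq.respectTransparency false
set_option linter.style.haveILetI false

universe u

open CategoryTheory AlgebraicGeometry Limits MonoidalCategory CartesianMonoidalCategory MonObj GrpObj
open TopologicalSpace Topology

namespace Groth.Agent.NeutralGen28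

variable {S : Scheme.{u}} (G : Over S) [GrpObj G]

/-- The points whose `n`-th power lies in the neutral component of their fibre. -/
def powMem (n : ℕ) : Set G.left := ((𝟙 G : G ⟶ G) ^ n).left ⁻¹' SGA3x.neutralSet G

theorem hom_pow (n : ℕ) (x : G.left) : G.hom (((𝟙 G : G ⟶ G) ^ n).left x) = G.hom x := by
  rw [← Scheme.Hom.comp_apply, Over.w]

/-- The exponents carrying a point into the neutral component are closed under greatest common divisors. -/
theorem gcd_mem {x : G.left} {m n : ℕ} (hm : x ∈ powMem G m) (hn : x ∈ powMem G n) :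
    x ∈ powMem G (Nat.gcd m n) := by
  let H : AddSubgroup ℤ :=
    { carrier := {k : ℤ | ((𝟙 G : G ⟶ G) ^ k).left x ∈ SGA3x.neutralSet G}
      zero_mem' := by
        show ((𝟙 G : G ⟶ G) ^ (0 : ℤ)).left x ∈ SGA3x.neutralSet G
        rw [zpow_zero, Hom.one_def, Over.comp_left, Scheme.Hom.comp_apply]
        exact GrpSGA.NeutralCons.unitSec_mem G _
      add_mem' := fun {a b} ha hb => by
        show ((𝟙 G : G ⟶ G) ^ (a + b)).left x ∈ SGA3x.neutralSet G
        rw [zpow_add]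
        exact GrpSGA.Neutral.mul_mem x _ _ ha hb
      neg_mem' := fun {a} ha => by
        show ((𝟙 G : G ⟶ G) ^ (-a)).left x ∈ SGA3x.neutralSet G
        rw [zpow_neg]
        exact GrpSGA.Neutral.inv_mem x _ ha }
  have hm' : (m : ℤ) ∈ H := by
    show ((𝟙 G : G ⟶ G) ^ (m : ℤ)).left x ∈ SGA3x.neutralSet G
    rw [zpow_natCast]; exact hm
  have hn' : (n : ℤ) ∈ H := by
    show ((𝟙 G : G ⟶ G) ^ (n : ℤ)).left x ∈ SGA3x.neutralSet G
    rw [zpow_natCast]; exact hn
  have hg : ((Nat.gcd m n : ℕ) : ℤ) ∈ H := by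
    rw [Nat.gcd_eq_gcd_ab]
    refine H.add_mem ?_ ?_
    · rw [mul_comm]; simpa using H.zsmul_mem hm' (Nat.gcdA m n)
    · rw [mul_comm]; simpa using H.zsmul_mem hn' (Nat.gcdB m n)
  show ((𝟙 G : G ⟶ G) ^ Nat.gcd m n).left x ∈ SGA3x.neutralSet G
  rw [← zpow_natCast]
  exact hg

/-- On a quasi-compact open finitely many exponents suffice. -/
theorem exists_bound [IsLocallyNoetherian S] [LocallyOfFiniteType G.hom] (W : G.left.Opens)
    (hW : IsCompact (W : Set G.left)) :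
    ∃ F : Finset ℕ, ∀ x ∈ W, ∀ n : ℕ, 0 < n → x ∈ powMem G n → ∃ m ∈ F, m ∣ n ∧ x ∈ powMem G m := by
  classical
  haveI : IsLocallyNoetherian G.left := LocallyOfFiniteType.isLocallyNoetherian G.hom
  haveI : CompactSpace (W : Scheme.{u}) := isCompact_iff_compactSpace.mp hW
  haveI : IsNoetherian (W : Scheme.{u}) := { }
  have hWc : ∀ K : Set G.left, K ⊆ W → IsCompact K := fun K hK => by
    have h := (TopologicalSpace.NoetherianSpace.isCompact (W.ι ⁻¹' K)).image W.ι.continuous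
    rwa [Set.image_preimage_eq_inter_range, Scheme.Opens.range_ι, Set.inter_eq_left.mpr hK] at h
  -- compact pieces of the base
  obtain ⟨B, hB, hBc⟩ : ∃ B : Set S, G.hom '' W ⊆ B ∧ ∃ U : S.Opens, (U : Set S) = B ∧ IsCompact (U : Set S) := by
    have hc := hW.image G.hom.continuous
    obtain ⟨t, ht⟩ := hc.elim_finite_subcover (fun U : S.affineOpens => ((U : S.Opens) : Set S))
      (fun U => (U : S.Opens).2) (fun s _ => by
        obtain ⟨U, hU, hsU, -⟩ := exists_isAffineOpen_mem_and_subset (x := s) (U := ⊤) trivial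
        exact Set.mem_iUnion.mpr ⟨⟨U, hU⟩, hsU⟩)
    refine ⟨_, ht, ⟨⋃ U ∈ t, ((U : S.Opens) : Set S), isOpen_biUnion fun U _ => (U : S.Opens).2⟩, rfl, ?_⟩
    exact t.isCompact_biUnion fun U _ => U.2.isCompact
  obtain ⟨U, rfl, hUc⟩ := hBc
  haveI : CompactSpace (U : Scheme.{u}) := isCompact_iff_compactSpace.mp hUc
  haveI : IsNoetherian (U : Scheme.{u}) := { }
  suffices key : ∀ Z : Closeds (U : Scheme.{u}), ∃ F : Finset ℕ, ∀ x ∈ W, G.hom x ∈ U.ι '' (Z : Set (U : Scheme.{u})) →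
      ∀ n : ℕ, 0 < n → x ∈ powMem G n → ∃ m ∈ F, m ∣ n ∧ x ∈ powMem G m by
    obtain ⟨F, hF⟩ := key ⊤
    refine ⟨F, fun x hx n hn h => hF x hx ?_ n hn h⟩
    exact ⟨⟨G.hom x, hB ⟨x, hx, rfl⟩⟩, trivial, rfl⟩
  intro Z
  induction Z using WellFoundedLT.induction with
  | _ Z IH =>
    rcases (Z : Set (U : Scheme.{u})).eq_empty_or_nonempty with hZe | ⟨z₀, hz₀⟩
    · exact ⟨∅, fun x _ hx => by rw [hZe, Set.image_empty] at hx; exact hx.elim⟩
    let I := Scheme.IdealSheafData.vanishingIdeal Z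
    let i : I.subscheme ⟶ S := I.subschemeι ≫ U.ι
    have hrι : Set.range I.subschemeι = (Z : Set (U : Scheme.{u})) := by
      rw [Scheme.IdealSheafData.range_subschemeι, Scheme.IdealSheafData.coe_support_vanishingIdeal]
    haveI : Nonempty I.subscheme := by
      obtain ⟨y, -⟩ : z₀ ∈ Set.range I.subschemeι := by rw [hrι]; exact hz₀
      exact ⟨y⟩
    haveI : IsLocallyNoetherian I.subscheme := LocallyOfFiniteType.isLocallyNoetherian I.subschemeι
    let G' := Red.bc i G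
    haveI : LocallyOfFiniteType G'.hom := MorphismProperty.pullback_snd _ _ ‹LocallyOfFiniteType G.hom›
    obtain ⟨V, hVne, -, N, hN, -⟩ := exists_open G'
    let p : G'.left ⟶ G.left := pullback.fst G.hom i
    have hp : IsPreimmersion p := MorphismProperty.pullback_fst G.hom i inferInstance
    have hsq : ∀ z, G.hom (p z) = i (G'.hom z) := fun z => by
      rw [← Scheme.Hom.comp_apply, ← Scheme.Hom.comp_apply]
      exact congrArg (fun k : G'.left ⟶ S => k z) pullback.condition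
    obtain ⟨O, hO, hOeq⟩ := p.isEmbedding.isInducing.isOpen_iff.mp N.2
    have hpre : ∀ (n : ℕ) (x : G.left), G.hom x ∈ i '' (V : Set I.subscheme) →
        (x ∈ powMem G n ↔ ((𝟙 G : G ⟶ G) ^ n).left x ∈ O) := by
      rintro n x ⟨v, hv, hvx⟩
      obtain ⟨z, hz⟩ : ((𝟙 G : G ⟶ G) ^ n).left x ∈ Set.range p := by
        show _ ∈ Set.range (pullback.fst G.hom i)
        rw [Scheme.Pullback.range_fst]
        exact ⟨v, hvx.trans (hom_pow G n x).symm⟩
      have hzV : G'.hom z ∈ V := by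
        have h1 : i (G'.hom z) = i v := by rw [← hsq, hz, hom_pow, hvx]
        rwa [i.isEmbedding.injective h1]
      show ((𝟙 G : G ⟶ G) ^ n).left x ∈ SGA3x.neutralSet G ↔ _
      rw [← hz]
      have h1 : z ∈ (N : Set G'.left) ↔ p z ∈ O := (Set.ext_iff.mp hOeq z).symm
      rw [← h1, hN, S5322.result S _ i G]
      exact ⟨fun h => ⟨h, hzV⟩, fun h => h.1⟩
    let K : Set G.left := {x | x ∈ W ∧ G.hom x ∈ i '' (V : Set I.subscheme) ∧ ∃ n, 0 < n ∧ x ∈ powMem G n}
    obtain ⟨t, ht⟩ := (hWc K fun x hx => hx.1).elim_finite_subcover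
      (fun n : {n : ℕ // 0 < n} => ((𝟙 G : G ⟶ G) ^ n.1).left ⁻¹' O)
      (fun n => hO.preimage ((𝟙 G : G ⟶ G) ^ n.1).left.continuous)
      (fun x ⟨_, hxV, n, hn, hxn⟩ => Set.mem_iUnion.mpr ⟨⟨n, hn⟩, (hpre n x hxV).mp hxn⟩)
    let Z' : Closeds (U : Scheme.{u}) :=
      ⟨I.subschemeι '' (V : Set I.subscheme)ᶜ, I.subschemeι.isClosedEmbedding.isClosedMap _ V.2.isClosed_compl⟩
    have hlt : Z' < Z := by
      refine lt_of_le_of_ne ?_ ?_
      · rintro _ ⟨y, -, rfl⟩
        exact hrι.le ⟨y, rfl⟩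
      · intro e
        obtain ⟨v, hv⟩ := hVne
        have hm : I.subschemeι v ∈ (Z' : Set (U : Scheme.{u})) := by rw [e]; exact hrι.le ⟨v, rfl⟩
        obtain ⟨w, hw, hwv⟩ := hm
        exact hw (I.subschemeι.isClosedEmbedding.injective hwv ▸ hv)
    obtain ⟨F, hF⟩ := IH Z' hlt
    refine ⟨F ∪ t.biUnion (fun n => n.1.divisors), ?_⟩
    rintro x hxW ⟨s, hs, hsx⟩ n hn hxn
    obtain ⟨y, rfl⟩ := hrι.ge hs
    by_cases hyV : y ∈ V
    · have hxV : G.hom x ∈ i '' (V : Set I.subscheme) := ⟨y, hyV, (Scheme.Hom.comp_apply _ _ _).trans hsx⟩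
      obtain ⟨m, hmt, hxm⟩ := Set.mem_iUnion₂.mp (ht ⟨hxW, hxV, n, hn, hxn⟩)
      refine ⟨Nat.gcd m.1 n, Finset.mem_union_right _ (Finset.mem_biUnion.mpr ⟨m, hmt, ?_⟩), Nat.gcd_dvd_right _ _,
        gcd_mem G ((hpre m.1 x hxV).mpr hxm) hxn⟩
      exact Nat.mem_divisors.mpr ⟨Nat.gcd_dvd_left _ _, m.2.ne'⟩
    · obtain ⟨m, hm, h⟩ := hF x hxW ⟨_, ⟨y, hyV, rfl⟩, hsx⟩ n hn hxn
      exact ⟨m, Finset.mem_union_left _ hm, h⟩

/-- A condition on exponents gives a closed set when it does so for each exponent. -/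
theorem isClosed_of_bound [IsLocallyNoetherian S] [LocallyOfFiniteType G.hom]
    (h0 : IsClosed (SGA3x.neutralSet G)) (A : ℕ → Set G.left) (hA : ∀ m, IsClosed (A m))
    (hdvd : ∀ m n, 0 < n → m ∣ n → A n ⊆ A m) :
    IsClosed {x : G.left | ∃ n, 0 < n ∧ x ∈ A n ∧ x ∈ powMem G n} := by
  classical
  rw [← isOpen_compl_iff, isOpen_iff_forall_mem_open]
  intro x hx
  obtain ⟨W, hW, hxW, -⟩ := exists_isAffineOpen_mem_and_subset (X := G.left) (x := x) (U := ⊤) trivial
  obtain ⟨F, hF⟩ := exists_bound G W hW.isCompact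
  let C : Set G.left := ⋃ m ∈ F.filter (0 < ·), A m ∩ powMem G m
  have hC : IsClosed C := isClosed_biUnion_finset fun m _ =>
    (hA m).inter (h0.preimage ((𝟙 G : G ⟶ G) ^ m).left.continuous)
  refine ⟨(W : Set G.left) ∩ Cᶜ, ?_, W.2.inter hC.isOpen_compl, hxW, ?_⟩
  · rintro y ⟨hyW, hyC⟩ ⟨n, hn, hyA, hyn⟩
    obtain ⟨m, hm, hmn, hym⟩ := hF y hyW n hn hyn
    exact hyC (Set.mem_biUnion (Finset.mem_filter.mpr ⟨hm, Nat.pos_of_dvd_of_pos hmn hn⟩)
      ⟨hdvd m n hn hmn hyA, hym⟩)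
  · intro hxC
    obtain ⟨m, hm, hxm⟩ := Set.mem_iUnion₂.mp hxC
    exact hx ⟨m, (Finset.mem_filter.mp hm).2, hxm⟩

/-- The locus where a natural number vanishes in the residue field is closed. -/
theorem isClosed_setOf_cast_eq_zero (q : ℕ) :
    IsClosed {s : S | (q : S.residueField s) = 0} := by
  rw [← isOpen_compl_iff]
  convert (S.basicOpen (q : Γ(S, ⊤))).2 using 1
  ext s
  rw [Set.mem_compl_iff, Set.mem_setOf_eq, TopologicalSpace.Opens.carrier_eq_coe, SetLike.mem_coe,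
    S.mem_basicOpen (q : Γ(S, ⊤)) s trivial, map_natCast, ← IsLocalRing.residue_ne_zero_iff_isUnit, map_natCast]

end Groth.Agent.NeutralGen28
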