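import Groth.Agent.NeutralGen28.Open

/-!
# The neutral components are open over some nonempty open of any locally Noetherian base
-/

set_option autoImplicit false
set_option backward.isDefEq.respectTransparency false
set_option linter.style.haveILetI false

universe u

open CategoryTheory AlgebraicGeometry Limits MonoidalCategory CartesianMonoidalCategory MonObj GrpObj
open TopologicalSpace Topology

namespace Groth.Agent.NeutralGen28

variable {S : Scheme.{u}} (G : Over S) [GrpObj G]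

/-- Every nonempty locally Noetherian scheme has an integral affine scheme immersed with a nonempty open in its
image. -/
theorem exists_integral_imm [IsLocallyNoetherian S] [Nonempty S] :
    ∃ (Y : Scheme.{u}) (i : Y ⟶ S) (o : Set S), IsIntegral Y ∧ IsAffine Y ∧ IsLocallyNoetherian Y ∧
      IsPreimmersion i ∧ IsOpen o ∧ o.Nonempty ∧ o ⊆ Set.range i := by
  obtain ⟨s⟩ := ‹Nonempty S›
  obtain ⟨U, hU, hsU, -⟩ := exists_isAffineOpen_mem_and_subset (x := s) (U := ⊤) trivial
  haveI : IsNoetherianRing Γ(S, U) := IsLocallyNoetherian.component_noetherian ⟨U, hU⟩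
  obtain ⟨q, -⟩ : s ∈ Set.range hU.fromSpec := by rw [hU.range_fromSpec]; exact hsU
  obtain ⟨p, hp, -⟩ := Ideal.exists_minimalPrimes_le (I := ⊥) (J := q.asIdeal) bot_le
  haveI : p.IsPrime := Ideal.minimalPrimes_isPrime hp
  let Z : Set (PrimeSpectrum Γ(S, U)) := PrimeSpectrum.zeroLocus p
  have hZ : Z ∈ irreducibleComponents (PrimeSpectrum Γ(S, U)) := by
    rw [← PrimeSpectrum.zeroLocus_minimalPrimes]
    exact ⟨p, hp, rfl⟩
  obtain ⟨o, ho, hne, hoZ⟩ := TopologicalSpace.NoetherianSpace.exists_isOpen_nonempty_subset_irreducibleComponent Z hZ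
  let j : Spec (CommRingCat.of (Γ(S, U) ⧸ p)) ⟶ Spec Γ(S, U) :=
    Spec.map (CommRingCat.ofHom (Ideal.Quotient.mk p))
  haveI : IsClosedImmersion j := IsClosedImmersion.spec_of_surjective _ Ideal.Quotient.mk_surjective
  refine ⟨_, j ≫ hU.fromSpec, hU.fromSpec '' o, inferInstance, inferInstance, inferInstance, inferInstance,
    hU.fromSpec.isOpenEmbedding.isOpenMap o ho, hne.image _, ?_⟩
  rintro _ ⟨t, ht, rfl⟩
  have hr : t ∈ Set.range (PrimeSpectrum.comap (Ideal.Quotient.mk p)) := by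
    rw [range_comap_of_surjective _ _ Ideal.Quotient.mk_surjective, Ideal.mk_ker]
    exact hoZ ht
  obtain ⟨w, rfl⟩ := hr
  exact ⟨w, Scheme.Hom.comp_apply _ _ _⟩

/-- Over some nonempty affine open of the base the neutral components are open and quasi-compact. -/
theorem exists_open [IsLocallyNoetherian S] [Nonempty S] [LocallyOfFiniteType G.hom] :
    ∃ V : S.Opens, (V : Set S).Nonempty ∧ IsAffineOpen V ∧
      ∃ N : G.left.Opens, (N : Set G.left) = SGA3x.neutralSet G ∩ G.hom ⁻¹' V ∧ IsCompact (N : Set G.left) := by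
  obtain ⟨Y, i, o, hYi, hYa, hYn, hi, ho, hone, hor⟩ := exists_integral_imm (S := S)
  let G' := Red.bc i G
  haveI : LocallyOfFiniteType G'.hom := MorphismProperty.pullback_snd _ _ ‹LocallyOfFiniteType G.hom›
  obtain ⟨V', hV'ne, hV', N', hN', hN'c⟩ := exists_open_of_integral G'
  let p : G'.left ⟶ G.left := pullback.fst G.hom i
  have hp : IsPreimmersion p := MorphismProperty.pullback_fst G.hom i hi
  have hsq : ∀ z, G.hom (p z) = i (G'.hom z) := fun z => by
    rw [← Scheme.Hom.comp_apply, ← Scheme.Hom.comp_apply]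
    exact congrArg (fun k : G'.left ⟶ S => k z) pullback.condition
  -- an affine open of `S` inside the image of `V'`
  obtain ⟨y, hyV, hyo⟩ : ∃ y, y ∈ V' ∧ i y ∈ o := by
    obtain ⟨s, hs⟩ := hone
    obtain ⟨y, rfl⟩ := hor hs
    have h1 : genericPoint Y ∈ V' := by
      obtain ⟨t, ht⟩ := hV'ne
      exact ((genericPoint_spec Y).specializes trivial).mem_open V'.2 ht
    exact ⟨_, h1, (((genericPoint_spec Y).specializes (y := y) trivial).map i.continuous).mem_open ho hs⟩
  obtain ⟨W₀, hW₀, hW₀eq⟩ := i.isEmbedding.isInducing.isOpen_iff.mp V'.2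
  obtain ⟨V, hV, hyV', hVle⟩ := exists_isAffineOpen_mem_and_subset (X := S) (x := i y)
    (U := ⟨W₀ ∩ o, hW₀.inter ho⟩) ⟨(Set.ext_iff.mp hW₀eq y).mpr hyV, hyo⟩
  have hN : SGA3x.neutralSet G ∩ G.hom ⁻¹' V = p '' ((N' : Set G'.left) ∩ G'.hom ⁻¹' (i ⁻¹' V)) := by
    ext x
    constructor
    · rintro ⟨hx, hxV⟩
      have hr : x ∈ Set.range p := by
        show x ∈ Set.range (pullback.fst G.hom i)
        rw [Scheme.Pullback.range_fst]
        exact hor (hVle hxV).2
      obtain ⟨z, rfl⟩ := hr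
      have hzV : i (G'.hom z) ∈ V := by rw [← hsq]; exact hxV
      refine ⟨z, ⟨?_, hzV⟩, rfl⟩
      rw [hN', S5322.result S Y i G]
      exact ⟨hx, (Set.ext_iff.mp hW₀eq _).mp (hVle hzV).1⟩
    · rintro ⟨z, ⟨hz, hzV⟩, rfl⟩
      rw [hN', S5322.result S Y i G] at hz
      exact ⟨hz.1, by show G.hom (p z) ∈ V; rw [hsq]; exact hzV⟩
  have hopen : IsOpen (SGA3x.neutralSet G ∩ G.hom ⁻¹' V) := by
    obtain ⟨W, hW, hWeq⟩ := p.isEmbedding.isInducing.isOpen_iff.mp (N'.2.inter (((i ⁻¹ᵁ V).2).preimage G'.hom.continuous))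
    have e : SGA3x.neutralSet G ∩ G.hom ⁻¹' V = W ∩ G.hom ⁻¹' V := by
      refine Set.Subset.antisymm ?_ ?_
      · rintro x hx
        refine ⟨?_, hx.2⟩
        obtain ⟨z, hz, rfl⟩ := hN.le hx
        exact hWeq.ge hz
      · rintro x ⟨hx, hxV⟩
        have hr : x ∈ Set.range p := by
          show x ∈ Set.range (pullback.fst G.hom i)
          rw [Scheme.Pullback.range_fst]
          exact hor (hVle hxV).2
        obtain ⟨z, rfl⟩ := hr
        exact hN.ge ⟨z, hWeq.le hx, rfl⟩
    rw [e]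
    exact hW.inter (V.2.preimage G.hom.continuous)
  refine ⟨V, ⟨_, hyV'⟩, hV, ⟨_, hopen⟩, rfl, ?_⟩
  show IsCompact (SGA3x.neutralSet G ∩ G.hom ⁻¹' V)
  rw [hN]
  refine IsCompact.image ?_ p.continuous
  haveI : CompactSpace (N' : Scheme.{u}) := isCompact_iff_compactSpace.mp hN'c
  haveI : QuasiCompact (N'.ι ≫ G'.hom) := quasiCompact_of_compactSpace _
  have hc : IsCompact ((i ⁻¹ᵁ V : Y.Opens) : Set Y) := by
    haveI : IsNoetherian Y := { }
    exact TopologicalSpace.NoetherianSpace.isCompact _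
  have h := ((N'.ι ≫ G'.hom).isCompact_preimage hc).image N'.ι.continuous
  convert h
  ext z
  constructor
  · rintro ⟨h1, h2⟩
    exact ⟨⟨z, h1⟩, h2, rfl⟩
  · rintro ⟨w, h2, rfl⟩
    exact ⟨w.2, h2⟩

end Groth.Agent.NeutralGen28
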