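import Groth.Agent.NeutralOpen27.Points
import Groth.Agent.GrpScheme.SubgroupObj
import Groth.Agent.ProConsX.Basic
import Mathlib
import Groth.Agent.S5322
import Groth.Agent.S5325
import Groth.Agent.S0414

/-!
# The neutral components are open over a nonempty open of the base
-/

set_option autoImplicit false
set_option backward.isDefEq.respectTransparency false
set_option linter.style.haveILetI false

universe u

open CategoryTheory AlgebraicGeometry Limits MonoidalCategory CartesianMonoidalCategory MonObj GrpObj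
open TopologicalSpace Topology

namespace Groth.Agent.NeutralGen28

open Groth.Agent.NeutralOpen27

variable {S : Scheme.{u}} (G : Over S) [GrpObj G]

/-- Products of points of a quasi-compact open of the neutral components smooth over the base. -/
lemma exists_mul_open' (V : S.Opens) (hV : IsAffineOpen V) (O : G.left.Opens)
    (hOc : IsCompact (O : Set G.left)) (hOn : (O : Set G.left) ⊆ SGA3x.neutralSet G)
    (hOV : O ≤ G.hom ⁻¹ᵁ V) (heO : ∀ t ∈ V, unitSec G t ∈ O) [UniversallyOpen (O.ι ≫ G.hom)] :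
    ∃ N : G.left.Opens, (N : Set G.left) = SGA3x.neutralSet G ∩ G.hom ⁻¹' V ∧
      IsCompact (N : Set G.left) := by
  let W : (G ⊗ G).left.Opens := (fst G G).left ⁻¹ᵁ O ⊓ (snd G G).left ⁻¹ᵁ O
  let A : (G ⊗ G).left.Opens := (fst G G).left ⁻¹ᵁ O
  have hA : UniversallyOpen (A.ι ≫ (snd G G).left) := by
    have h1 : IsPullback (A.ι ≫ (snd G G).left) ((fst G G).left ∣_ O) G.hom (O.ι ≫ G.hom) :=
      (isPullback_morphismRestrict (fst G G).left O).flip.paste_horiz
        (IsPullback.of_hasPullback G.hom G.hom).flip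
    exact MorphismProperty.of_isPullback (P := @UniversallyOpen) h1.flip ‹_›
  let φ := GrpScheme.Basic.shear (GrpScheme.Basic.leftAction G) (𝟙 G)
  have : IsIso φ.hom.left := GrpScheme.Basic.isIso_left φ.hom
  have hφ : φ.hom.left ≫ (fst G G).left = (fst G G).left := by
    rw [← Over.comp_left]
    simp [φ, GrpScheme.Basic.shear]
  have hμ : φ.hom.left ≫ (snd G G).left = μ[G].left := by
    rw [← Over.comp_left, ← GrpScheme.Basic.mul_eq_shear_comp_snd]
  have hWA : Set.range (W.ι ≫ φ.hom.left) ⊆ Set.range A.ι := by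
    rw [Scheme.Opens.range_ι]
    rintro _ ⟨w, rfl⟩
    show (fst G G).left (φ.hom.left (W.ι w)) ∈ O
    rw [← Scheme.Hom.comp_apply, hφ]
    exact w.2.1
  let l := IsOpenImmersion.lift A.ι (W.ι ≫ φ.hom.left) hWA
  have : IsOpenImmersion (l ≫ A.ι) := by rw [IsOpenImmersion.lift_fac]; infer_instance
  have : IsOpenImmersion l := IsOpenImmersion.of_comp l A.ι
  have hm : UniversallyOpen (W.ι ≫ μ[G].left) := by
    rw [← hμ, ← Category.assoc, ← IsOpenImmersion.lift_fac A.ι (W.ι ≫ φ.hom.left) hWA, Category.assoc]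
    infer_instance
  let N : G.left.Opens := ⟨Set.range (W.ι ≫ μ[G].left), (W.ι ≫ μ[G].left).isOpenMap.isOpen_range⟩
  have hN : (N : Set G.left) = SGA3x.neutralSet G ∩ G.hom ⁻¹' V := by
    refine Set.Subset.antisymm ?_ ?_
    · rintro _ ⟨w, rfl⟩
      rw [Scheme.Hom.comp_apply]
      refine ⟨mul_mem G (W.ι w) (hOn w.2.1) (hOn w.2.2), ?_⟩
      show G.hom (μ[G].left (W.ι w)) ∈ V
      rw [← Scheme.Hom.comp_apply, Over.w, ← hom_fst]
      exact hOV w.2.1
    · rintro x ⟨hx, hxV⟩
      obtain ⟨p, hp1, hp2, hp⟩ := exists_mul G O (heO _ hxV) hx rfl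
      exact ⟨⟨p, hp1, hp2⟩, hp⟩
  have hWc : IsCompact (W : Set (G ⊗ G).left) := by
    let fO : (O : Scheme.{u}) ⟶ V := G.hom.resLE V O hOV
    have : CompactSpace (O : Scheme.{u}) := isCompact_iff_compactSpace.mp hOc
    have : IsAffine (V : Scheme.{u}) := hV
    have : QuasiCompact fO := quasiCompact_of_compactSpace fO
    have : CompactSpace ↥(pullback fO fO) := QuasiCompact.compactSpace_of_compactSpace (pullback.fst fO fO)
    have hr := Scheme.Pullback.range_map fO fO G.hom G.hom O.ι O.ι V.ι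
      (Scheme.Hom.resLE_comp_ι G.hom hOV) (Scheme.Hom.resLE_comp_ι G.hom hOV)
    have hW : (W : Set (G ⊗ G).left) = Set.range (pullback.map fO fO G.hom G.hom O.ι O.ι V.ι
      (Scheme.Hom.resLE_comp_ι G.hom hOV) (Scheme.Hom.resLE_comp_ι G.hom hOV)) := by
      rw [hr, Scheme.Opens.range_ι]
      rfl
    rw [hW]
    exact isCompact_range (Scheme.Hom.continuous _)
  have : CompactSpace (W : Scheme.{u}) := isCompact_iff_compactSpace.mp hWc
  exact ⟨N, hN, isCompact_range (Scheme.Hom.continuous _)⟩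

/-- An open union of neutral components is an open subgroup. -/
theorem exists_subgroup (hopen : IsOpen (SGA3x.neutralSet G)) :
    ∃ (G0 : Over S) (_ : GrpObj G0) (i : G0 ⟶ G), IsMonHom i ∧ IsOpenImmersion i.left ∧
      Set.range i.left.base = SGA3x.neutralSet G := by
  let N₀ : G.left.Opens := ⟨SGA3x.neutralSet G, hopen⟩
  let H : Over S := Over.mk (N₀.ι ≫ G.hom)
  let i : H ⟶ G := Over.homMk N₀.ι rfl
  have : IsOpenImmersion i.left := inferInstanceAs (IsOpenImmersion N₀.ι)
  have : Mono i := Over.mono_of_mono_left _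
  have hfac : ∀ {T : Over S} (a : T ⟶ G), (∀ t, a.left t ∈ SGA3x.neutralSet G) → ∃ b : T ⟶ H, b ≫ i = a := by
    intro T a ha
    have hr : Set.range a.left ⊆ Set.range N₀.ι := by
      rw [Scheme.Opens.range_ι]
      rintro _ ⟨t, rfl⟩
      exact ha t
    refine ⟨Over.homMk (IsOpenImmersion.lift N₀.ι a.left hr) ?_, Over.OverMorphism.ext (IsOpenImmersion.lift_fac _ _ hr)⟩
    show IsOpenImmersion.lift N₀.ι a.left hr ≫ N₀.ι ≫ G.hom = _
    rw [IsOpenImmersion.lift_fac_assoc, Over.w]
  have hi : ∀ t : H.left, i.left t ∈ SGA3x.neutralSet G := fun t => t.2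
  obtain ⟨hgrp, hmon⟩ := GrpScheme.SubgroupObj.exists_grpObj i
    (hfac _ fun t => by
      show (((i ⊗ₘ i) ≫ μ[G]).left t) ∈ _
      rw [GrpScheme.Points.comp_apply]
      refine mul_mem G _ ?_ ?_
      · rw [← GrpScheme.Points.comp_apply, tensorHom_fst, GrpScheme.Points.comp_apply]
        exact hi _
      · rw [← GrpScheme.Points.comp_apply, tensorHom_snd, GrpScheme.Points.comp_apply]
        exact hi _)
    (hfac _ fun t => by
      rw [mem_neutralSet]
      show unitSec G t ∈ connectedComponentIn (G.hom ⁻¹' {G.hom (unitSec G t)}) (unitSec G (G.hom (unitSec G t)))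
      rw [hom_unitSec]
      exact mem_connectedComponentIn (hom_unitSec G t))
    (hfac _ fun t => by rw [GrpScheme.Points.comp_apply]; exact inv_mem G (hi t))
  exact ⟨H, hgrp, i, hmon, inferInstance, Scheme.Opens.range_ι N₀⟩

/-- Near the generic point of an integral affine base the neutral components are open and quasi-compact. -/
theorem exists_open_of_integral [IsIntegral S] [IsAffine S] [IsLocallyNoetherian S] [LocallyOfFiniteType G.hom] :
    ∃ V : S.Opens, (V : Set S).Nonempty ∧ IsAffineOpen V ∧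
      ∃ N : G.left.Opens, (N : Set G.left) = SGA3x.neutralSet G ∩ G.hom ⁻¹' V ∧ IsCompact (N : Set G.left) := by
  have : LocallyOfFinitePresentation G.hom := inferInstance
  let x := unitSec G (genericPoint S)
  have hx : x ∈ interior (SGA3x.neutralSet G) := by
    refine (ProConsX.Basic.mem_interior_iff (S5325.result S G).1 x).mpr fun y hy => ?_
    have hπ : G.hom y = genericPoint S := by
      have h1 : G.hom y ⤳ genericPoint S := by
        have := hy.map G.hom.continuous
        rwa [show G.hom x = genericPoint S from NeutralOpen27.hom_unitSec G _] at this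
      exact (h1.antisymm ((genericPoint_spec S).specializes trivial)).eq
    rw [NeutralOpen27.mem_neutralSet, hπ]
    refine IsPreconnected.subset_connectedComponentIn
      (s := {y, x}) ?_ (Set.mem_insert_of_mem _ rfl) ?_ (Set.mem_insert _ _)
    · exact isPreconnected_singleton.subset_closure (Set.singleton_subset_iff.mpr (Set.mem_insert _ _))
        (Set.insert_subset (subset_closure rfl) (Set.singleton_subset_iff.mpr hy.mem_closure))
    · exact Set.insert_subset hπ (Set.singleton_subset_iff.mpr (NeutralOpen27.hom_unitSec G _))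
  obtain ⟨W, hW, hxW, hWN⟩ := exists_isAffineOpen_mem_and_subset (X := G.left) (x := x)
    (U := ⟨interior (SGA3x.neutralSet G), isOpen_interior⟩) hx
  have : IsAffine (W : Scheme.{u}) := hW
  have : QuasiCompact (W.ι ≫ G.hom) := inferInstance
  obtain ⟨U₀, hU₀, hfl, hfp⟩ := S0414.result (W.ι ≫ G.hom)
  have hη₀ : genericPoint S ∈ U₀ := by
    obtain ⟨t, ht⟩ := hU₀.nonempty
    exact ((genericPoint_spec S).specializes trivial).mem_open U₀.2 ht
  obtain ⟨V, hV, hηV, hVle⟩ := exists_isAffineOpen_mem_and_subset (X := S) (x := genericPoint S)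
    (U := U₀ ⊓ (unitSec G) ⁻¹ᵁ W) ⟨hη₀, hxW⟩
  let O : G.left.Opens := W ⊓ G.hom ⁻¹ᵁ V
  have hOc : IsCompact (O : Set G.left) := by
    have h : IsCompact (((W.ι ≫ G.hom) ⁻¹ᵁ V : (W : Scheme.{u}).Opens) : Set (W : Scheme.{u})) :=
      (W.ι ≫ G.hom).isCompact_preimage hV.isCompact
    convert h.image W.ι.continuous
    ext z
    constructor
    · rintro ⟨h1, h2⟩
      exact ⟨⟨z, h1⟩, h2, rfl⟩
    · rintro ⟨w, h2, rfl⟩
      exact ⟨w.2, h2⟩
  have : UniversallyOpen (O.ι ≫ G.hom) := by
    let g := W.ι ≫ G.hom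
    have : UniversallyOpen (g ∣_ U₀) := UniversallyOpen.of_flat _
    have : UniversallyOpen ((g ⁻¹ᵁ U₀).ι ≫ g) := by
      rw [← morphismRestrict_ι]
      infer_instance
    have hr : Set.range O.ι ⊆ Set.range ((g ⁻¹ᵁ U₀).ι ≫ W.ι) := by
      rintro _ ⟨o, rfl⟩
      exact ⟨⟨⟨o.1, o.2.1⟩, (hVle o.2.2).1⟩, rfl⟩
    let k := IsOpenImmersion.lift ((g ⁻¹ᵁ U₀).ι ≫ W.ι) O.ι hr
    have hk : k ≫ (g ⁻¹ᵁ U₀).ι ≫ W.ι = O.ι := IsOpenImmersion.lift_fac _ _ hr
    have : IsOpenImmersion (k ≫ (g ⁻¹ᵁ U₀).ι ≫ W.ι) := by rw [hk]; infer_instance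
    have : IsOpenImmersion k := IsOpenImmersion.of_comp k ((g ⁻¹ᵁ U₀).ι ≫ W.ι)
    have : UniversallyOpen k := inferInstance
    have e : O.ι ≫ G.hom = k ≫ (g ⁻¹ᵁ U₀).ι ≫ g := by rw [← hk]; simp [g]
    rw [e]
    infer_instance
  obtain ⟨N, hN⟩ := exists_mul_open' G V hV O hOc (fun z hz => interior_subset (hWN hz.1))
    inf_le_right fun t ht => ⟨(hVle ht).2, by
      show G.hom (unitSec G t) ∈ V
      rw [NeutralOpen27.hom_unitSec]; exact ht⟩
  exact ⟨V, ⟨_, hηV⟩, hV, N, hN⟩

end Groth.Agent.NeutralGen28
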