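import Groth.Agent.NeutralGen28.TauOpen
import Groth.Agent.SchPoints.Basic

/-!
# Roots in neutral components; the set of points of `p`-power component order is open
-/

set_option autoImplicit false
set_option backward.isDefEq.respectTransparency false
set_option linter.style.haveILetI false

universe u

open CategoryTheory AlgebraicGeometry Limits MonoidalCategory CartesianMonoidalCategory MonObj GrpObj
open TopologicalSpace Topology

namespace Groth.Agent.NeutralGen28

variable {S : Scheme.{u}} (G : Over S) [GrpObj G]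

/-- If a power map is open then it is surjective on neutral components. -/
theorem exists_root [IsCommMonObj G] [LocallyOfFiniteType G.hom] (n : ℕ)
    (hopen : IsOpenMap ((𝟙 G : G ⟶ G) ^ n).left) {w : G.left} (hw : w ∈ SGA3x.neutralSet G) :
    ∃ v, v ∈ SGA3x.neutralSet G ∧ ((𝟙 G : G ⟶ G) ^ n).left v = w := by
  let P : G ⟶ G := (𝟙 G : G ⟶ G) ^ n
  let s := G.hom w
  let F := GrpSGA.Fibre.fib G s
  haveI : LocallyOfFiniteType F.hom := MorphismProperty.pullback_snd _ _ ‹LocallyOfFiniteType G.hom›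
  haveI : IsLocallyNoetherian F.left := LocallyOfFiniteType.isLocallyNoetherian F.hom
  haveI : LocallyConnectedSpace F.left := SchPoints.locallyConnectedSpace fun z => by
    obtain ⟨A, hA, hzA, -⟩ := exists_isAffineOpen_mem_and_subset (X := F.left) (x := z) (U := ⊤) trivial
    haveI : CompactSpace (A : Scheme.{u}) := isCompact_iff_compactSpace.mp hA.isCompact
    haveI : IsNoetherian (A : Scheme.{u}) := { }
    exact ⟨A, A.2.mem_nhds hzA, inferInstanceAs (NoetherianSpace (A : Scheme.{u}))⟩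
  obtain ⟨W, hW, hWC⟩ := (GrpSGA.Fibre.isEmbedding_fibι G s).isInducing.isOpen_iff.mp
    (isOpen_connectedComponent (x := GrpScheme.IdComponent.e₀ F))
  have hWN : ∀ y, G.hom y = s → (y ∈ W ↔ y ∈ SGA3x.neutralSet G) := fun y hy => by
    obtain ⟨z, rfl⟩ := GrpSGA.Fibre.exists_mem_fib G hy
    rw [GrpSGA.Fibre.mem_neutralSet_iff]
    exact Set.ext_iff.mp hWC z
  let O : G.left.Opens := ⟨P.left '' W, hopen W hW⟩
  have he : NeutralOpen27.unitSec G s ∈ O := by
    refine ⟨NeutralOpen27.unitSec G s, (hWN _ (NeutralOpen27.hom_unitSec G s)).mpr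
      (GrpSGA.NeutralCons.unitSec_mem G s), ?_⟩
    show (η[G] ≫ P).left s = η[G].left s
    rw [MonObj.comp_pow, Category.comp_id, MonObj.one_eq_one, one_pow]
  obtain ⟨p, ⟨a, haW, ha⟩, ⟨b, hbW, hb⟩, hp⟩ := NeutralOpen27.exists_mul G O he hw rfl
  have hps : (G ⊗ G).hom p = s := by
    show (G ⊗ G).hom p = G.hom w
    rw [← hp, ← Scheme.Hom.comp_apply, Over.w]
  let Φ₁ : G ⊗ G ⟶ G ⊗ G := lift (fst G G ≫ P) (snd G G)
  let Φ₂ : G ⊗ G ⟶ G ⊗ G := lift (fst G G) (snd G G ≫ P)
  have pb : IsPullback (fst G G).left (snd G G).left G.hom G.hom := IsPullback.of_hasPullback G.hom G.hom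
  have h₁ : IsPullback (fst G G).left Φ₁.left P.left (fst G G).left := by
    refine IsPullback.of_bot ?_ ?_ pb
    · rw [Over.w P, ← Over.comp_left, lift_snd]
      exact pb
    · rw [← Over.comp_left, ← Over.comp_left, lift_fst]
  have h₂ : IsPullback (snd G G).left Φ₂.left P.left (snd G G).left := by
    refine IsPullback.of_bot ?_ ?_ pb.flip
    · rw [Over.w P, ← Over.comp_left, lift_fst]
      exact pb.flip
    · rw [← Over.comp_left, ← Over.comp_left, lift_snd]
  obtain ⟨p₁, hp₁a, hp₁⟩ := Scheme.exists_preimage_of_isPullback h₁ a p ha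
  have hp₁b : (snd G G).left p₁ = (snd G G).left p := by
    rw [← hp₁, ← Scheme.Hom.comp_apply, ← Over.comp_left, lift_snd]
  obtain ⟨q, hqb, hq⟩ := Scheme.exists_preimage_of_isPullback h₂ b p₁ (hb.trans hp₁b.symm)
  have hqa : (fst G G).left q = a := by
    rw [← hp₁a, ← hq, ← Scheme.Hom.comp_apply, ← Over.comp_left, lift_fst]
  have hPhom : ∀ y, G.hom (P.left y) = G.hom y := fun y => hom_pow G n y
  have has : G.hom a = s := by
    rw [← hPhom, ha, NeutralOpen27.hom_fst, hps]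
  have hbs : G.hom b = s := by
    rw [← hPhom, hb, ← Scheme.Hom.comp_apply, NeutralOpen27.snd_comp_hom, hps]
  refine ⟨μ[G].left q, NeutralOpen27.mul_mem G q ?_ ?_, ?_⟩
  · rw [hqa]; exact (hWN a has).mp haW
  · rw [hqb]; exact (hWN b hbs).mp hbW
  · have hμ : μ[G] = fst G G * snd G G := by rw [Hom.mul_def, lift_fst_snd, Category.id_comp]
    have e : μ[G] ≫ P = (Φ₂ ≫ Φ₁) ≫ μ[G] := by
      rw [hμ]
      simp only [P, Φ₁, Φ₂, MonObj.comp_pow, Category.comp_id, mul_pow, MonObj.comp_mul, Category.assoc,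
        lift_fst, lift_snd, lift_fst_assoc, lift_snd_assoc]
    show P.left (μ[G].left q) = w
    rw [← Scheme.Hom.comp_apply, ← Over.comp_left, e]
    simp only [Over.comp_left, Scheme.Hom.comp_apply]
    rw [hq, hp₁, hp]

/-- A generalisation of a point whose component order is a power of `p` has the same property. -/
theorem exists_pow_of_specializes [IsLocallyNoetherian S] [IsCommMonObj G] [LocallyOfFiniteType G.hom]
    (p : ℕ) (hp : p = 1 ∨ p.Prime)
    (hopen : ∀ n : ℕ, 0 < n → Nat.Coprime n p → IsOpenMap ((𝟙 G : G ⟶ G) ^ n).left)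
    {x y : G.left} (hxy : y ⤳ x) {h : ℕ} (hx : x ∈ powMem G (p ^ h)) : ∃ h', y ∈ powMem G (p ^ h') := by
  classical
  have hp0 : 0 < p := by rcases hp with rfl | hp; exacts [Nat.one_pos, hp.pos]
  obtain ⟨m, hm, hym⟩ := exists_powMem_of_specializes G hxy (pow_pos hp0 h) hx
  obtain ⟨b, n, hn0, hn, hmn⟩ : ∃ b n, 0 < n ∧ Nat.Coprime n p ∧ m = p ^ b * n := by
    rcases hp with rfl | hp
    · exact ⟨0, m, hm, Nat.coprime_one_right m, by simp⟩
    · obtain ⟨b, n, hn, hmn⟩ := Nat.exists_eq_pow_mul_and_not_dvd hm.ne' p hp.ne_one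
      refine ⟨b, n, Nat.pos_of_ne_zero fun e => hn (e ▸ dvd_zero p), ?_, hmn⟩
      exact (hp.coprime_iff_not_dvd.mpr hn).symm
  have hpp : ∀ (a c : ℕ) (z : G.left), ((𝟙 G : G ⟶ G) ^ c).left (((𝟙 G : G ⟶ G) ^ a).left z) =
      ((𝟙 G : G ⟶ G) ^ (a * c)).left z := fun a c z => by
    rw [← Scheme.Hom.comp_apply, ← Over.comp_left, MonObj.comp_pow, Category.comp_id, ← pow_mul]
  let M := p ^ h * p ^ b
  let z := ((𝟙 G : G ⟶ G) ^ M).left y
  let w := ((𝟙 G : G ⟶ G) ^ M).left x
  have hw : w ∈ SGA3x.neutralSet G := powMem_mul G hx (p ^ b)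
  have hzw : z ⤳ w := hxy.map ((𝟙 G : G ⟶ G) ^ M).left.continuous
  have hzn : z ∈ powMem G n := by
    show ((𝟙 G : G ⟶ G) ^ n).left z ∈ SGA3x.neutralSet G
    rw [hpp, show M * n = m * p ^ h by rw [hmn]; ring]
    exact powMem_mul G hym (p ^ h)
  obtain ⟨V, hV, hwV, -⟩ := exists_isAffineOpen_mem_and_subset (X := S) (x := G.hom w) (U := ⊤) trivial
  haveI : IsAffine (V : Scheme.{u}) := hV
  obtain ⟨K, hK, hNK, -⟩ := GrpSGA.NeutralCompact.exists_compact G V.ι
  obtain ⟨t, ht⟩ := hK.elim_finite_subcover (fun A : G.left.affineOpens => ((A : G.left.Opens) : Set G.left))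
    (fun A => (A : G.left.Opens).2) (fun z _ => by
      obtain ⟨A, hA, hzA, -⟩ := exists_isAffineOpen_mem_and_subset (X := G.left) (x := z) (U := ⊤) trivial
      exact Set.mem_iUnion.mpr ⟨⟨A, hA⟩, hzA⟩)
  let U : G.left.Opens := ⟨⋃ A ∈ t, ((A : G.left.Opens) : Set G.left), isOpen_biUnion fun A _ => (A : G.left.Opens).2⟩
  obtain ⟨F, hF⟩ := exists_bound G U (t.isCompact_biUnion fun A _ => A.2.isCompact)
  let J := F.sup id
  have hJ : Nat.Coprime (n ^ J) p := Nat.Coprime.pow_left J hn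
  obtain ⟨v, hv, hvw⟩ := exists_root G (n ^ J) (hopen _ (pow_pos hn0 J) hJ) hw
  have hvV : G.hom v ∈ Set.range V.ι := by
    rw [Scheme.Opens.range_ι]
    show G.hom v ∈ V
    rw [← hom_pow G (n ^ J) v, hvw]
    exact hwV
  obtain ⟨z', hz'U, hz'⟩ := hzw.mem_open ((hopen _ (pow_pos hn0 J) hJ) U U.2) ⟨v, ht (hNK ⟨hv, hvV⟩), hvw⟩
  have hz'n : z' ∈ powMem G (n ^ J * n) := by
    show ((𝟙 G : G ⟶ G) ^ (n ^ J * n)).left z' ∈ SGA3x.neutralSet G
    rw [← hpp, hz']
    exact hzn
  obtain ⟨c, hcF, hcd, hc⟩ := hF z' hz'U _ (Nat.mul_pos (pow_pos hn0 J) hn0) hz'n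
  refine ⟨h + b, ?_⟩
  show ((𝟙 G : G ⟶ G) ^ (p ^ (h + b))).left y ∈ SGA3x.neutralSet G
  rw [pow_add]
  show z ∈ SGA3x.neutralSet G
  rw [← hz']
  have hc0 : c ≠ 0 := (Nat.pos_of_dvd_of_pos hcd (Nat.mul_pos (pow_pos hn0 J) hn0)).ne'
  obtain ⟨d, hd⟩ : c ∣ n ^ J := by
    rw [← Nat.factorization_le_iff_dvd hc0 (pow_pos hn0 J).ne']
    intro q
    rw [Nat.factorization_pow, Finsupp.smul_apply, smul_eq_mul]
    by_cases hq : n.factorization q = 0
    · have h1 := (Nat.factorization_le_iff_dvd hc0 (Nat.mul_pos (pow_pos hn0 J) hn0).ne').mpr hcd q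
      rw [Nat.factorization_mul (pow_pos hn0 J).ne' hn0.ne', Nat.factorization_pow] at h1
      simp [hq] at h1
      simp [h1]
    · calc c.factorization q ≤ c := (Nat.factorization_lt q hc0).le
        _ ≤ J := Finset.le_sup (f := id) hcF
        _ = J * 1 := (mul_one J).symm
        _ ≤ J * n.factorization q := Nat.mul_le_mul_left J (Nat.one_le_iff_ne_zero.mpr hq)
  rw [hd]
  exact powMem_mul G hc d

/-- The set of points of `p`-power component order is open when the prime-to-`p` power maps are open. -/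
theorem isOpen_rho [IsLocallyNoetherian S] [IsCommMonObj G] [LocallyOfFiniteType G.hom]
    (p : ℕ) (hp : p = 1 ∨ p.Prime)
    (hopen : ∀ n : ℕ, 0 < n → Nat.Coprime n p → IsOpenMap ((𝟙 G : G ⟶ G) ^ n).left) :
    IsOpen {x : G.left | ∃ h, x ∈ powMem G (p ^ h)} := by
  haveI : LocallyOfFinitePresentation G.hom := inferInstance
  haveI : IsLocallyNoetherian G.left := LocallyOfFiniteType.isLocallyNoetherian G.hom
  have hic : ProCons.IsIndConstructible {x : G.left | ∃ h, x ∈ powMem G (p ^ h)} := by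
    have e : {x : G.left | ∃ h, x ∈ powMem G (p ^ h)} = ⋃ h : ℕ, powMem G (p ^ h) := by
      ext x; simp
    rw [e]
    refine ProConsX.Basic.isIndConstructible_iff.mpr fun U hU => ?_
    rw [Set.preimage_iUnion]
    exact @isOpen_iUnion _ _ (constructibleTopology _) _ fun h => ProConsX.Basic.isIndConstructible_iff.mp
      (LimTop.isIndConstructible_of_isLocallyConstructible (AlgSpB.isLocallyConstructible_preimage
        ((𝟙 G : G ⟶ G) ^ (p ^ h)).left ((S5325.result S G).2.2 inferInstance))) U hU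
  rw [← interior_eq_iff_isOpen]
  refine Set.Subset.antisymm interior_subset fun x ⟨h, hx⟩ =>
    (ProConsX.Basic.mem_interior_iff hic x).mpr fun y hy => exists_pow_of_specializes G p hp hopen hy hx

end Groth.Agent.NeutralGen28
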