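import Groth.Agent.NeutralGen28.Bound
import Groth.Agent.GrpSGA.NeutralCompact
import Groth.Agent.AlgSpB.Charts

/-!
# The torsion component set is stable under generalisation, hence open
-/

set_option autoImplicit false
set_option backward.isDefEq.respectTransparency false
set_option linter.style.haveILetI false

universe u

open CategoryTheory AlgebraicGeometry Limits MonoidalCategory CartesianMonoidalCategory MonObj GrpObj
open TopologicalSpace Topology

namespace Groth.Agent.NeutralGen28

variable {S : Scheme.{u}} (G : Over S) [GrpObj G]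

theorem powMem_mul {x : G.left} {n : ℕ} (hn : x ∈ powMem G n) (k : ℕ) : x ∈ powMem G (n * k) := by
  induction k with
  | zero =>
    show ((𝟙 G : G ⟶ G) ^ (n * 0)).left x ∈ SGA3x.neutralSet G
    rw [Nat.mul_zero, pow_zero, Hom.one_def, Over.comp_left, Scheme.Hom.comp_apply]
    exact GrpSGA.NeutralCons.unitSec_mem G _
  | succ k ih =>
    show ((𝟙 G : G ⟶ G) ^ (n * (k + 1))).left x ∈ SGA3x.neutralSet G
    rw [Nat.mul_succ, pow_add]
    exact GrpSGA.Neutral.mul_mem x _ _ ih hn

set_option synthInstance.maxHeartbeats 200000 in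
/-- If all the multiples of a power of a point lie in a quasi-compact open, a power lies in the neutral component. -/
theorem exists_powMem [IsLocallyNoetherian S] [LocallyOfFiniteType G.hom] (y : G.left) (n : ℕ)
    (U : G.left.Opens) (hU : IsCompact (U : Set G.left))
    (h : ∀ k, ((𝟙 G : G ⟶ G) ^ (n * k)).left y ∈ U) :
    ∃ d, 0 < d ∧ y ∈ powMem G (n * d) := by
  let κ := Spec (G.left.residueField y)
  let f : κ ⟶ S := G.left.fromSpecResidueField y ≫ G.hom
  let F : Over κ := Red.bc f G
  let p : F.left ⟶ G.left := pullback.fst G.hom f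
  haveI : LocallyOfFiniteType F.hom := MorphismProperty.pullback_snd _ _ ‹LocallyOfFiniteType G.hom›
  haveI : IsLocallyNoetherian F.left := LocallyOfFiniteType.isLocallyNoetherian F.hom
  haveI : QuasiCompact f := quasiCompact_of_compactSpace f
  haveI : QuasiCompact p := MorphismProperty.pullback_fst G.hom f ‹QuasiCompact f›
  let σ : 𝟙_ (Over κ) ⟶ F := Over.homMk (pullback.lift (G.left.fromSpecResidueField y) (𝟙 κ) (by simp [f]))
    (pullback.lift_snd _ _ _)
  obtain ⟨pt⟩ : Nonempty κ := inferInstanceAs (Nonempty (PrimeSpectrum (G.left.residueField y)))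
  have hmap : ∀ m : ℕ, (Over.pullback f).map ((𝟙 G : G ⟶ G) ^ m) = (𝟙 F : F ⟶ F) ^ m := by
    intro m
    induction m with
    | zero => rw [pow_zero, pow_zero, Functor.map_one]
    | succ m ih => rw [pow_succ, pow_succ, Functor.map_mul, ih, CategoryTheory.Functor.map_id]
  have hval : ∀ m : ℕ, p ((σ ^ m).left pt) = ((𝟙 G : G ⟶ G) ^ m).left y := by
    intro m
    have e : σ ^ m = σ ≫ (𝟙 F : F ⟶ F) ^ m := by rw [MonObj.comp_pow, Category.comp_id]
    have e2 : (σ ^ m).left ≫ p = G.left.fromSpecResidueField y ≫ ((𝟙 G : G ⟶ G) ^ m).left := by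
      rw [e, ← hmap, Over.comp_left, Category.assoc]
      have h1 : ((Over.pullback f).map ((𝟙 G : G ⟶ G) ^ m)).left ≫ p =
          pullback.fst G.hom f ≫ ((𝟙 G : G ⟶ G) ^ m).left := pullback.lift_fst _ _ _
      rw [h1, ← Category.assoc]
      congr 1
      exact pullback.lift_fst _ _ _
    rw [← Scheme.Hom.comp_apply, e2, Scheme.Hom.comp_apply]
    exact congrArg _ (Scheme.fromSpecResidueField_apply y pt)
  let U' : F.left.Opens := p ⁻¹ᵁ U
  haveI : CompactSpace (U' : Scheme.{u}) := isCompact_iff_compactSpace.mp (p.isCompact_preimage hU)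
  haveI : IsNoetherian (U' : Scheme.{u}) := { }
  let z : ℕ → (U' : Scheme.{u}) := fun k =>
    ⟨(σ ^ (n * k)).left pt, show p _ ∈ U by rw [hval]; exact h k⟩
  haveI := (TopologicalSpace.NoetherianSpace.finite_irreducibleComponents (α := (U' : Scheme.{u}))).to_subtype
  let C : ℕ → irreducibleComponents (U' : Scheme.{u}) := fun k =>
    ⟨irreducibleComponent (z k), irreducibleComponent_mem_irreducibleComponents _⟩
  obtain ⟨k, l, hkl, hC⟩ := Finite.exists_ne_map_eq_of_infinite C
  wlog hlt : k < l generalizing k l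
  · exact this l k hkl.symm hC.symm (lt_of_le_of_ne (not_lt.mp hlt) hkl.symm)
  refine ⟨l - k, Nat.sub_pos_of_lt hlt, ?_⟩
  let L : F ⟶ F := (toUnit F ≫ (σ ^ (n * k))⁻¹) * 𝟙 F
  have hL : ∀ m, (σ ^ m) ≫ L = (σ ^ (n * k))⁻¹ * σ ^ m := fun m => by
    simp only [L, MonObj.comp_mul, Category.comp_id]
    rw [← Category.assoc, show (σ ^ m) ≫ toUnit F = 𝟙 _ from toUnit_unique _ _, Category.id_comp]
  have hC' : irreducibleComponent (z k) = irreducibleComponent (z l) := congrArg Subtype.val hC
  have hpre : _root_.IsPreconnected (L.left '' (U'.ι '' irreducibleComponent (z k))) :=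
    ((isIrreducible_irreducibleComponent.isConnected.isPreconnected.image _ U'.ι.continuous.continuousOn).image _
      L.left.continuous.continuousOn)
  have hk : η[F].left pt ∈ L.left '' (U'.ι '' irreducibleComponent (z k)) := by
    refine ⟨(σ ^ (n * k)).left pt, ⟨z k, mem_irreducibleComponent, rfl⟩, ?_⟩
    rw [← Scheme.Hom.comp_apply, ← Over.comp_left, hL, inv_mul_cancel, Hom.one_def, toUnit_unit,
      Category.id_comp]
  have hl : (σ ^ (n * (l - k))).left pt ∈ L.left '' (U'.ι '' irreducibleComponent (z k)) := by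
    refine ⟨(σ ^ (n * l)).left pt, ⟨z l, hC'.ge mem_irreducibleComponent, rfl⟩, ?_⟩
    rw [← Scheme.Hom.comp_apply, ← Over.comp_left, hL]
    have e3 : (σ ^ (n * k))⁻¹ * σ ^ (n * l) = σ ^ (n * (l - k)) := by
      rw [inv_mul_eq_iff_eq_mul, ← pow_add, ← Nat.mul_add, Nat.add_sub_cancel' hlt.le]
    rw [e3]
  have hmem : (σ ^ (n * (l - k))).left pt ∈ SGA3x.neutralSet F := by
    haveI : Subsingleton κ := inferInstanceAs (Subsingleton (PrimeSpectrum (G.left.residueField y)))
    rw [NeutralOpen27.mem_neutralSet]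
    refine hpre.subset_connectedComponentIn (x := η[F].left _) ?_ ?_ hl
    · rw [show F.hom ((σ ^ (n * (l - k))).left pt) = pt from Subsingleton.elim _ _]
      exact hk
    · intro w _
      exact Subsingleton.elim (F.hom w) _
  rw [S5322.result S κ f G, Set.mem_preimage] at hmem
  show ((𝟙 G : G ⟶ G) ^ (n * (l - k))).left y ∈ SGA3x.neutralSet G
  rw [← hval]
  exact hmem

/-- The torsion component set is stable under generalisation. -/
theorem exists_powMem_of_specializes [IsLocallyNoetherian S] [LocallyOfFiniteType G.hom] {x y : G.left}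
    (hxy : y ⤳ x) {n : ℕ} (hn : 0 < n) (hx : x ∈ powMem G n) : ∃ m, 0 < m ∧ y ∈ powMem G m := by
  obtain ⟨V, hV, hxV, -⟩ := exists_isAffineOpen_mem_and_subset (X := S) (x := G.hom x) (U := ⊤) trivial
  haveI : IsAffine (V : Scheme.{u}) := hV
  obtain ⟨K, hK, hNK, -⟩ := GrpSGA.NeutralCompact.exists_compact G V.ι
  obtain ⟨t, ht⟩ := hK.elim_finite_subcover (fun A : G.left.affineOpens => ((A : G.left.Opens) : Set G.left))
    (fun A => (A : G.left.Opens).2) (fun z _ => by
      obtain ⟨A, hA, hzA, -⟩ := exists_isAffineOpen_mem_and_subset (X := G.left) (x := z) (U := ⊤) trivial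
      exact Set.mem_iUnion.mpr ⟨⟨A, hA⟩, hzA⟩)
  let U : G.left.Opens := ⟨⋃ A ∈ t, ((A : G.left.Opens) : Set G.left), isOpen_biUnion fun A _ => (A : G.left.Opens).2⟩
  obtain ⟨d, hd, h⟩ := exists_powMem G y n U (t.isCompact_biUnion fun A _ => A.2.isCompact) fun k => by
    refine (hxy.map ((𝟙 G : G ⟶ G) ^ (n * k)).left.continuous).mem_open U.2 (ht (hNK ⟨powMem_mul G hx k, ?_⟩))
    rw [Scheme.Opens.range_ι]
    show G.hom _ ∈ V
    rw [hom_pow]
    exact hxV
  exact ⟨n * d, Nat.mul_pos hn hd, h⟩

/-- The torsion component set is open. -/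
theorem isOpen_tau [IsLocallyNoetherian S] [LocallyOfFiniteType G.hom] :
    IsOpen {x : G.left | ∃ n, 0 < n ∧ x ∈ powMem G n} := by
  haveI : LocallyOfFinitePresentation G.hom := inferInstance
  haveI : IsLocallyNoetherian G.left := LocallyOfFiniteType.isLocallyNoetherian G.hom
  have hic : ProCons.IsIndConstructible {x : G.left | ∃ n, 0 < n ∧ x ∈ powMem G n} := by
    have e : {x : G.left | ∃ n, 0 < n ∧ x ∈ powMem G n} = ⋃ n : {n : ℕ // 0 < n}, powMem G n.1 := by
      ext x; simp
    rw [e]
    refine ProConsX.Basic.isIndConstructible_iff.mpr fun U hU => ?_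
    rw [Set.preimage_iUnion]
    exact @isOpen_iUnion _ _ (constructibleTopology _) _ fun n => ProConsX.Basic.isIndConstructible_iff.mp
      (LimTop.isIndConstructible_of_isLocallyConstructible (AlgSpB.isLocallyConstructible_preimage
        ((𝟙 G : G ⟶ G) ^ n.1).left ((S5325.result S G).2.2 inferInstance))) U hU
  rw [← interior_eq_iff_isOpen]
  refine Set.Subset.antisymm interior_subset fun x ⟨n, hn, hx⟩ =>
    (ProConsX.Basic.mem_interior_iff hic x).mpr fun y hy => exists_powMem_of_specializes G hy hn hx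

end Groth.Agent.NeutralGen28
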